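import Mathlib
set_option linter.all false

set_option autoImplicit false

/-!
# The parity lemma

Transfer of an involution `t` to a subgroup `H`: product over the fixed cosets.  If the conjugates of
`t` in `H` with nontrivial value form one `H`-class, with `|C_G(t) : C_H(t)|` odd, the transfer is `φ t`.
-/

namespace Cfsg.Agent.StdL3.OneParity

open MulAction

/-- transfer with respect to an arbitrary section. -/
theorem transfer_eq_prod_section {G A : Type*} [Group G] [CommGroup A] {N : Subgroup G}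
    [N.FiniteIndex] [hf : Fintype (G ⧸ N)] (ϕ : N →* A) (s : G ⧸ N → G)
    (hs : ∀ q : G ⧸ N, ((s q : G) : G ⧸ N) = q) (g : G)
    (hmem : ∀ q : G ⧸ N, (s q)⁻¹ * (g * s (g⁻¹ • q)) ∈ N) :
    MonoidHom.transfer ϕ g = ∏ q : G ⧸ N, ϕ ⟨(s q)⁻¹ * (g * s (g⁻¹ • q)), hmem q⟩ := by
  classical
  obtain rfl : hf = N.fintypeQuotientOfFiniteIndex := Subsingleton.elim _ _
  rw [MonoidHom.transfer_def ϕ ⟨Set.range s, Subgroup.isComplement_range_left hs⟩ g,
    Subgroup.leftTransversals.diff]
  refine Finset.prod_congr rfl fun q _ => ?_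
  congr 1
  apply Subtype.ext
  have h1 : ∀ q : G ⧸ N,
      (((⟨Set.range s, Subgroup.isComplement_range_left hs⟩ : N.LeftTransversal).2.leftQuotientEquiv
        q : _) : G) = s q :=
    fun q => Subgroup.IsComplement.leftQuotientEquiv_apply hs q
  dsimp only
  rw [Subgroup.smul_apply_eq_smul_apply_inv_smul, smul_eq_mul, h1, h1]

variable {G : Type*} [Group G]

/-- transfer of an involution: product over the fixed cosets. -/
theorem transfer_eq_prod_fixed {A : Type*} [CommGroup A] (H : Subgroup G) [H.FiniteIndex]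
    [Fintype (G ⧸ H)] [DecidableEq (G ⧸ H)] (φ : H →* A) (t : G) (ht : t * t = 1) :
    ∃ f : G ⧸ H → A, (∀ q : G ⧸ H, ∀ g : G, (g : G ⧸ H) = q → ∀ hg : g⁻¹ * t * g ∈ H,
        f q = φ ⟨g⁻¹ * t * g, hg⟩) ∧
      MonoidHom.transfer φ t = ∏ q ∈ Finset.univ.filter (fun q : G ⧸ H => t • q = q), f q := by
  classical
  have hti : t⁻¹ = t := inv_eq_of_mul_eq_one_right ht
  have hmem : ∀ q : G ⧸ H, (q.out)⁻¹ * (t * (t⁻¹ • q).out) ∈ H := by
    intro q
    rw [← QuotientGroup.eq, ← smul_eq_mul t, ← MulAction.Quotient.smul_mk, QuotientGroup.out_eq',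
      QuotientGroup.out_eq', smul_inv_smul]
  refine ⟨fun q => φ ⟨(q.out)⁻¹ * (t * (t⁻¹ • q).out), hmem q⟩, ?_, ?_⟩
  · intro q g hq hg
    have hfix : t • q = q := by
      rw [← hq, MulAction.Quotient.smul_mk, smul_eq_mul, QuotientGroup.eq]
      have : (t * g)⁻¹ * g = g⁻¹ * t * g := by rw [mul_inv_rev, hti]
      rw [this]; exact hg
    have hfix' : t⁻¹ • q = q := by rw [hti, hfix]
    obtain ⟨x, hx⟩ : ∃ x : H, q.out = g * x := by
      have h1 : (q.out : G ⧸ H) = (g : G ⧸ H) := by rw [QuotientGroup.out_eq', hq]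
      have h2 := QuotientGroup.eq.mp h1.symm
      exact ⟨⟨g⁻¹ * q.out, h2⟩, by simp⟩
    have h3 : (⟨(q.out)⁻¹ * (t * (t⁻¹ • q).out), hmem q⟩ : H) =
        x⁻¹ * ⟨g⁻¹ * t * g, hg⟩ * x := by
      apply Subtype.ext
      simp only [Subgroup.coe_mul, Subgroup.coe_inv]
      rw [hfix', hx]; group
    show φ _ = _
    rw [h3, map_mul, map_mul, map_inv]
    rw [mul_comm (φ x)⁻¹, mul_assoc, inv_mul_cancel, mul_one]
  · rw [transfer_eq_prod_section φ
      (fun q => q.out) (fun q => QuotientGroup.out_eq' q) t hmem]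
    rw [← Finset.prod_filter_mul_prod_filter_not Finset.univ (fun q : G ⧸ H => t • q = q)]
    rw [mul_eq_left]
    apply Finset.prod_involution (fun q _ => t • q)
    · intro q hq
      have h1 : (⟨(q.out)⁻¹ * (t * (t⁻¹ • q).out), hmem q⟩ : H) *
          ⟨((t • q).out)⁻¹ * (t * (t⁻¹ • (t • q)).out), hmem (t • q)⟩ = 1 := by
        apply Subtype.ext
        simp only [Subgroup.coe_mul, Subgroup.coe_one, inv_smul_smul]
        rw [hti]
        calc (q.out)⁻¹ * (t * (t • q).out) * (((t • q).out)⁻¹ * (t * q.out))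
            = (q.out)⁻¹ * (t * t) * q.out := by group
          _ = 1 := by rw [ht]; group
      rw [← map_mul, h1, map_one]
    · intro q hq _ h
      simp only [Finset.mem_filter, Finset.mem_univ, true_and] at hq
      exact hq h
    · intro q hq
      rw [← mul_smul, ht, one_smul]
    · intro q hq
      simp only [Finset.mem_filter, Finset.mem_univ, true_and] at hq ⊢
      intro h
      apply hq
      exact MulAction.injective t h

/-- **Parity lemma**: one class. -/
theorem transfer_eq_of_one_class {A : Type*} [CommGroup A] [Finite G] (H : Subgroup G)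
    (φ : H →* A) (t : G) (ht : t * t = 1) (htH : t ∈ H)
    (hcl : ∀ g : G, ∀ hg : g⁻¹ * t * g ∈ H, φ ⟨g⁻¹ * t * g, hg⟩ ≠ 1 →
      ∃ x ∈ H, g⁻¹ * t * g = x⁻¹ * t * x)
    (hodd : Odd (H.subgroupOf (Subgroup.centralizer {t})).index) :
    MonoidHom.transfer φ t = φ ⟨t, htH⟩ := by
  classical
  have hti : t⁻¹ = t := inv_eq_of_mul_eq_one_right ht
  have := Fintype.ofFinite (G ⧸ H)
  obtain ⟨f, hf, hprod⟩ := transfer_eq_prod_fixed H φ t ht
  have hφ2 : φ ⟨t, htH⟩ ^ 2 = 1 := by
    rw [← map_pow]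
    have : (⟨t, htH⟩ : H) ^ 2 = 1 := Subtype.ext (by simp [pow_two, ht])
    rw [this, map_one]
  by_cases hφ1 : φ ⟨t, htH⟩ = 1
  · rw [hprod, hφ1]
    apply Finset.prod_eq_one
    intro q hq
    simp only [Finset.mem_filter, Finset.mem_univ, true_and] at hq
    by_contra hne
    obtain ⟨g, rfl⟩ := QuotientGroup.mk_surjective q
    have hg : g⁻¹ * t * g ∈ H := by
      rw [MulAction.Quotient.smul_mk, smul_eq_mul, QuotientGroup.eq] at hq
      have : (t * g)⁻¹ * g = g⁻¹ * t * g := by rw [mul_inv_rev, hti]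
      rw [this] at hq; exact hq
    rw [hf _ g rfl hg] at hne
    obtain ⟨x, hx, e⟩ := hcl g hg hne
    apply hne
    have h3 : (⟨g⁻¹ * t * g, hg⟩ : H) = (⟨x, hx⟩ : H)⁻¹ * ⟨t, htH⟩ * ⟨x, hx⟩ := by
      apply Subtype.ext
      simp only [Subgroup.coe_mul, Subgroup.coe_inv]
      exact e
    rw [h3, map_mul, map_mul, hφ1, mul_one, ← map_mul, inv_mul_cancel, map_one]
  -- the orbit of the coset `H` under `C_G(t)`
  set C := Subgroup.centralizer ({t} : Set G) with hC
  set q0 : G ⧸ H := ((1 : G) : G ⧸ H) with hq0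
  have horb : ∀ q : G ⧸ H, t • q = q → (f q ≠ 1 ↔ q ∈ MulAction.orbit C q0) := by
    intro q hq
    obtain ⟨g, rfl⟩ := QuotientGroup.mk_surjective q
    have hg : g⁻¹ * t * g ∈ H := by
      rw [MulAction.Quotient.smul_mk, smul_eq_mul, QuotientGroup.eq] at hq
      have : (t * g)⁻¹ * g = g⁻¹ * t * g := by rw [mul_inv_rev, hti]
      rw [this] at hq; exact hq
    constructor
    · intro hne
      rw [hf _ g rfl hg] at hne
      obtain ⟨x, hx, e⟩ := hcl g hg hne
      have hc : g * x⁻¹ ∈ C := by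
        rw [hC, Subgroup.mem_centralizer_singleton_iff]
        have h1 : t = g * (g⁻¹ * t * g) * g⁻¹ := by group
        have h2 : g * x⁻¹ * t * (g * x⁻¹)⁻¹ = t := by
          calc g * x⁻¹ * t * (g * x⁻¹)⁻¹ = g * (x⁻¹ * t * x) * g⁻¹ := by group
            _ = t := by rw [← e]; group
        calc g * x⁻¹ * t = g * x⁻¹ * t * (g * x⁻¹)⁻¹ * (g * x⁻¹) := by group
          _ = t * (g * x⁻¹) := by rw [h2]
      refine ⟨⟨g * x⁻¹, hc⟩, ?_⟩
      show (g * x⁻¹) • q0 = _
      rw [hq0, MulAction.Quotient.smul_mk, smul_eq_mul, mul_one, QuotientGroup.eq]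
      have : (g * x⁻¹)⁻¹ * g = x := by group
      rw [this]; exact hx
    · rintro ⟨⟨c, hc⟩, e⟩
      have e' : (c : G ⧸ H) = (g : G ⧸ H) := by
        have : c • q0 = (g : G ⧸ H) := e
        rw [hq0, MulAction.Quotient.smul_mk, smul_eq_mul, mul_one] at this
        exact this
      rw [hC, Subgroup.mem_centralizer_singleton_iff] at hc
      have hc1 : c⁻¹ * t * c = t := by rw [mul_assoc, ← hc]; group
      have hcH : c⁻¹ * t * c ∈ H := by rw [hc1]; exact htH
      rw [hf _ c e' hcH]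
      have h3 : (⟨c⁻¹ * t * c, hcH⟩ : H) = ⟨t, htH⟩ := Subtype.ext hc1
      rw [h3]; exact hφ1
  have hval : ∀ q : G ⧸ H, q ∈ MulAction.orbit C q0 → t • q = q ∧ f q = φ ⟨t, htH⟩ := by
    rintro q ⟨⟨c, hc⟩, rfl⟩
    have e' : (c : G ⧸ H) = (⟨c, hc⟩ : C) • q0 := by
      show _ = c • q0
      rw [hq0, MulAction.Quotient.smul_mk, smul_eq_mul, mul_one]
    have hc' := hc
    rw [hC, Subgroup.mem_centralizer_singleton_iff] at hc'
    have hc1 : c⁻¹ * t * c = t := by rw [mul_assoc, ← hc']; group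
    have hcH : c⁻¹ * t * c ∈ H := by rw [hc1]; exact htH
    constructor
    · show t • ((⟨c, hc⟩ : C) • q0) = (⟨c, hc⟩ : C) • q0
      rw [← e', MulAction.Quotient.smul_mk, smul_eq_mul, QuotientGroup.eq]
      have : (t * c)⁻¹ * c = c⁻¹ * t * c := by rw [mul_inv_rev, hti]
      rw [this]; exact hcH
    · show f ((⟨c, hc⟩ : C) • q0) = _
      rw [hf _ c e' hcH]
      have h3 : (⟨c⁻¹ * t * c, hcH⟩ : H) = ⟨t, htH⟩ := Subtype.ext hc1
      rw [h3]
  have h1 : ∏ q ∈ Finset.univ.filter (fun q : G ⧸ H => t • q = q), f q =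
      ∏ q ∈ Finset.univ.filter (fun q : G ⧸ H => q ∈ MulAction.orbit C q0), φ ⟨t, htH⟩ := by
    rw [← Finset.prod_filter_mul_prod_filter_not
      (Finset.univ.filter (fun q : G ⧸ H => t • q = q)) (fun q => f q ≠ 1)]
    rw [Finset.prod_eq_one (s := Finset.filter (fun x => ¬ f x ≠ 1) _) (by
      intro q hq
      simp only [Finset.mem_filter, not_not] at hq
      exact hq.2), mul_one]
    apply Finset.prod_congr
    · ext q
      simp only [Finset.mem_filter, Finset.mem_univ, true_and]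
      constructor
      · rintro ⟨a, b⟩; exact (horb q a).mp b
      · intro a
        exact ⟨(hval q a).1, (horb q (hval q a).1).mpr a⟩
    · intro q hq
      simp only [Finset.mem_filter, Finset.mem_univ, true_and] at hq
      exact (hval q hq).2
  rw [hprod, h1, Finset.prod_const]
  have hcard : (Finset.univ.filter (fun q : G ⧸ H => q ∈ MulAction.orbit C q0)).card =
      (H.subgroupOf C).index := by
    have h2 : (MulAction.stabilizer C q0) = H.subgroupOf C := by
      ext ⟨c, hc⟩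
      rw [MulAction.mem_stabilizer_iff, Subgroup.mem_subgroupOf]
      show c • q0 = q0 ↔ c ∈ H
      rw [hq0, MulAction.Quotient.smul_mk, smul_eq_mul, mul_one]
      constructor
      · intro e
        have := QuotientGroup.eq.mp e.symm
        simpa using this
      · intro hcH
        rw [eq_comm, QuotientGroup.eq]; simpa using hcH
    rw [← h2, MulAction.index_stabilizer, ← Set.ncard_coe_finset]
    congr 1
    ext q; simp
  rw [hcard]
  obtain ⟨k, hk⟩ := hodd
  rw [hk, pow_succ, pow_mul, hφ2, one_pow, one_mul]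

/-- **Parity lemma**, for simple groups. -/
theorem eq_one_of_one_class {A : Type*} [CommGroup A] [Finite G] [IsSimpleGroup G]
    (hG : ¬ ∀ a b : G, a * b = b * a) (H : Subgroup G)
    (φ : H →* A) (t : G) (ht : t * t = 1) (htH : t ∈ H)
    (hcl : ∀ g : G, ∀ hg : g⁻¹ * t * g ∈ H, φ ⟨g⁻¹ * t * g, hg⟩ ≠ 1 →
      ∃ x ∈ H, g⁻¹ * t * g = x⁻¹ * t * x)
    (hodd : Odd (H.subgroupOf (Subgroup.centralizer {t})).index) :
    φ ⟨t, htH⟩ = 1 := by
  rw [← transfer_eq_of_one_class H φ t ht htH hcl hodd]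
  set f := MonoidHom.transfer φ with hf
  rcases (inferInstance : f.ker.Normal).eq_bot_or_eq_top with hk | hk
  · exfalso
    apply hG
    intro a b
    apply (MonoidHom.ker_eq_bot_iff f).mp hk
    rw [map_mul, map_mul, mul_comm]
  · have : t ∈ f.ker := hk ▸ Subgroup.mem_top t
    exact this

end Cfsg.Agent.StdL3.OneParity
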