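import Cfsg.Agent.ONType.OuterL
import Cfsg.Agent.Prune
set_option linter.all false
prune_inst 0x7f00000000000000000000000000000000000000000000000000000000000000000000000000000000000000000000000000000000000000000000000000000000000000000000000000000000000000003fffffffffffffffffffffffffffbeffbdffffffff
open scoped Cfsg.Agent.FastGrp

/-!
# Automorphisms of `PSL(3,4)` by matrices: product rules

`std b c` is the product of the field automorphism (if `b`) and of inverse transpose (if `c`).
Every automorphism of `PSL(3,4)` is `lift (cj A) * lift (std b c)`.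
-/

set_option autoImplicit false
set_option linter.constructorNameAsVariable false
set_option linter.unusedVariables false

namespace Cfsg.Agent.StdL3.OuterMat

open Matrix
open Cfsg.Agent.ClassicalGeometry.AutPSL.Root
open Cfsg.Agent.ClassicalGeometry.AutPSL.Auto
open Cfsg.Agent.ClassicalGeometry.AutPSL.Main
open Cfsg.Agent.SporadicA.FieldFour
open Cfsg.Agent.ONType.Psl
open Cfsg.Agent.ONType.OuterL

/-- matrices -/
abbrev Mat : Type := Matrix (Fin 3) (Fin 3) F4

/-- The Frobenius automorphism of `F4`. -/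
def phi : F4 ≃+* F4 where
  toFun u := u * u
  invFun u := u * u
  left_inv := by decide
  right_inv := by decide
  map_mul' := by decide
  map_add' := by decide

theorem phi_phi : phi * phi = 1 := by
  apply RingEquiv.ext
  intro u
  change phi (phi u) = u
  revert u
  decide

theorem sigma_cases (σ : F4 ≃+* F4) : σ = 1 ∨ σ = phi := by
  rcases ringEquiv_eq σ with h | h
  · exact Or.inl (RingEquiv.ext h)
  · exact Or.inr (RingEquiv.ext h)

/-- field automorphism on `GL` -/
noncomputable def gm (σ : F4 ≃+* F4) (A : GL (Fin 3) F4) : GL (Fin 3) F4 :=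
  Matrix.GeneralLinearGroup.map (σ : F4 →+* F4) A

theorem coe_gm (σ : F4 ≃+* F4) (A : GL (Fin 3) F4) :
    (gm σ A : Mat) = (A : Mat).map σ := rfl

theorem coe_gm_inv (σ : F4 ≃+* F4) (A : GL (Fin 3) F4) :
    (((gm σ A)⁻¹ : GL (Fin 3) F4) : Mat) = ((A⁻¹ : GL (Fin 3) F4) : Mat).map σ := by
  have h : (gm σ A)⁻¹ = gm σ A⁻¹ :=
    (map_inv (Matrix.GeneralLinearGroup.map (n := Fin 3) (σ : F4 →+* F4)) A).symm
  rw [h, coe_gm]

/-- inverse transpose on `GL` -/
noncomputable def it (A : GL (Fin 3) F4) : GL (Fin 3) F4 where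
  val := ((A⁻¹ : GL (Fin 3) F4) : Mat)ᵀ
  inv := (A : Mat)ᵀ
  val_inv := by rw [← transpose_mul, ← Units.val_mul, mul_inv_cancel, Units.val_one, transpose_one]
  inv_val := by rw [← transpose_mul, ← Units.val_mul, inv_mul_cancel, Units.val_one, transpose_one]

theorem coe_it (A : GL (Fin 3) F4) : (it A : Mat) = ((A⁻¹ : GL (Fin 3) F4) : Mat)ᵀ := rfl

theorem coe_it_inv (A : GL (Fin 3) F4) :
    (((it A)⁻¹ : GL (Fin 3) F4) : Mat) = (A : Mat)ᵀ := rfl

theorem fld_cj (σ : F4 ≃+* F4) (A : GL (Fin 3) F4) :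
    fld σ * cj A = cj (gm σ A) * fld σ := by
  apply MulEquiv.ext
  intro g
  apply Subtype.ext
  have h1 : ((fld σ * cj A : MulAut SL3) g).1 = ((A : Mat) * g.1 * ((A⁻¹ : GL (Fin 3) F4) : Mat)).map σ := rfl
  have h2 : ((cj (gm σ A) * fld σ : MulAut SL3) g).1 = ((gm σ A : GL (Fin 3) F4) : Mat) * (g.1.map σ) *
      (((gm σ A)⁻¹ : GL (Fin 3) F4) : Mat) := rfl
  rw [h1, h2, coe_gm, coe_gm_inv]
  have h3 : ∀ X Y : Mat, (X * Y).map σ = X.map σ * Y.map σ := fun X Y =>
    Matrix.map_mul (f := (σ : F4 →+* F4))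
  rw [h3, h3]

theorem itr_cj (A : GL (Fin 3) F4) : itr * cj A = cj (it A) * itr := by
  apply MulEquiv.ext
  intro g
  apply Subtype.ext
  have h1 : ((itr * cj A : MulAut SL3) g).1 = (((cj A g)⁻¹ : SL3).1)ᵀ := rfl
  have h2 : ((cj (it A) * itr : MulAut SL3) g).1 = ((it A : GL (Fin 3) F4) : Mat) * ((g⁻¹ : SL3).1)ᵀ *
      (((it A)⁻¹ : GL (Fin 3) F4) : Mat) := rfl
  rw [h1, h2, coe_it, coe_it_inv, ← map_inv, coe_cj, transpose_mul, transpose_mul, mul_assoc]

theorem itr_fld (σ : F4 ≃+* F4) :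
    itr * fld σ = fld σ * (itr : MulAut (Matrix.SpecialLinearGroup (Fin 3) F4)) := by
  apply MulEquiv.ext
  intro g
  apply Subtype.ext
  have h1 : ((itr * fld σ : MulAut SL3) g).1 = (((fld σ g)⁻¹ : SL3).1)ᵀ := rfl
  have h2 : ((fld σ * itr : MulAut SL3) g).1 = (((g⁻¹ : SL3).1)ᵀ).map σ := rfl
  rw [h1, h2, ← map_inv]
  rfl

/-- the standard outer automorphisms -/
noncomputable def std (b c : Bool) : MulAut SL3 :=
  (if b then fld phi else 1) * (if c then itr else 1)

theorem std_mul_cj (b c : Bool) (A : GL (Fin 3) F4) :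
    ∃ A' : GL (Fin 3) F4, std b c * cj A = cj A' * std b c := by
  have h1 : ∀ A : GL (Fin 3) F4, ∃ A' : GL (Fin 3) F4,
      (if c then (itr : MulAut SL3) else 1) * cj A = cj A' * (if c then itr else 1) := by
    intro A
    cases c
    · exact ⟨A, by simp⟩
    · exact ⟨it A, by simpa using itr_cj A⟩
  have h2 : ∀ A : GL (Fin 3) F4, ∃ A' : GL (Fin 3) F4,
      (if b then (fld phi : MulAut SL3) else 1) * cj A = cj A' * (if b then fld phi else 1) := by
    intro A
    cases b
    · exact ⟨A, by simp⟩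
    · exact ⟨gm phi A, by simpa using fld_cj phi A⟩
  obtain ⟨A1, e1⟩ := h1 A
  obtain ⟨A2, e2⟩ := h2 A1
  refine ⟨A2, ?_⟩
  rw [std, mul_assoc, e1, ← mul_assoc, e2, mul_assoc]

theorem fld_phi_sq : (fld phi * fld phi : MulAut SL3) = 1 := by
  rw [← map_mul, phi_phi, map_one]

theorem std_mul_std (b c b' c' : Bool) : std b c * std b' c' = std (xor b b') (xor c c') := by
  have h1 := fld_phi_sq
  have h2 : (itr * itr : MulAut SL3) = 1 := itr_mul_itr
  have h3 : (itr * fld phi : MulAut SL3) = fld phi * itr := itr_fld phi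
  have h4 : fld phi * (itr * fld phi) * itr = (1 : MulAut SL3) := by
    rw [h3, ← mul_assoc, h1, one_mul, h2]
  have h5 : fld phi * (fld phi * itr) = (itr : MulAut SL3) := by rw [← mul_assoc, h1, one_mul]
  have h6 : fld phi * itr * itr = (fld phi : MulAut SL3) := by rw [mul_assoc, h2, mul_one]
  have h7 : fld phi * itr * (fld phi * itr) = (1 : MulAut SL3) := by
    rw [← h4]; simp only [mul_assoc]
  have h8 : itr * (fld phi * itr) = (fld phi : MulAut SL3) := by rw [← mul_assoc, h3, h6]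
  have h9 : fld phi * itr * fld phi = (itr : MulAut SL3) := by rw [mul_assoc, h3, h5]
  cases b <;> cases c <;> cases b' <;> cases c' <;>
    simp [std, h1, h2, h3, h5, h6, h7, h8, h9]

theorem exists_std_form (β : MulAut PSL3) :
    ∃ (A : GL (Fin 3) F4) (b c : Bool), β = lift (cj A) * lift (std b c) := by
  have : Fact (Nat.Prime 2) := ⟨Nat.prime_two⟩
  rcases surj_three 2 (le_refl 3) β with ⟨A, σ, rfl⟩ | ⟨A, σ, rfl⟩
  · rcases sigma_cases σ with rfl | rfl
    · exact ⟨A, false, false, by simp [std]⟩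
    · exact ⟨A, true, false, by simp [std]⟩
  · rcases sigma_cases σ with rfl | rfl
    · exact ⟨A, false, true, by simp [std]⟩
    · exact ⟨A, true, true, by simp [std, mul_assoc]⟩

/-- `lift (cj C) = 1` only for scalar `C`. -/
theorem scalar_of_lift_cj {C : GL (Fin 3) F4} (h : lift (cj C) = 1) :
    ∃ r : F4, r ≠ 0 ∧ (C : Mat) = r • (1 : Mat) := by
  obtain ⟨⟨r, hr⟩, -⟩ := injective_aux (C := C) (σ := 1) (τ := 1) (by
    rw [map_one, mul_one, h, map_one])
  have h1 : (C : Mat) = r • (1 : Mat) := by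
    rw [← hr, scalar_apply, smul_one_eq_diagonal]
  refine ⟨r, ?_, h1⟩
  rintro rfl
  rw [zero_smul] at h1
  have h2 := Units.mul_inv C
  rw [h1, zero_mul] at h2
  exact absurd h2 (by
    intro h3
    have := congrFun (congrFun h3 0) 0
    simp at this)

theorem gl_ext {A B : GL (Fin 3) F4} (h : (A : Mat) = (B : Mat)) : A = B := Units.ext h

theorem cj_eq_of_smul {A B : GL (Fin 3) F4} {r : F4} (hr : r ≠ 0) (h : (A : Mat) = r • (B : Mat)) :
    cj A = cj B := by
  have h1 : cj (B⁻¹ * A) = 1 := by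
    apply cj_eq_one_of_scalar (r := r)
    rw [Units.val_mul, h, Matrix.mul_smul, ← Units.val_mul, inv_mul_cancel, Units.val_one,
      scalar_apply, smul_one_eq_diagonal]
  rw [map_mul, map_inv, inv_mul_eq_one] at h1
  exact h1.symm

end Cfsg.Agent.StdL3.OuterMat

private theorem dce_451610ca23d4 : _root_.True := by
  try have : _root_.True := by simp only [_root_.Cfsg.Agent.StdL3.OuterMat.std.eq_1]
  exact _root_.True.intro
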